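import Mathlib

set_option autoImplicit false

namespace Cfsg.Agent.Lib.Helper29

/-- `H.subgroupOf M` is a maximal subgroup of `M` iff `H` is a maximal element among the proper subgroups of `M`. -/
theorem isCoatom_subgroupOf_iff {G : Type*} [Group G] {H M : Subgroup G} (hHM : H ≤ M) :
    IsCoatom (H.subgroupOf M) ↔ (H ≠ M ∧ ∀ L : Subgroup G, H ≤ L → L ≤ M → L = H ∨ L = M) := by
  constructor
  · rintro ⟨h1, h2⟩
    refine ⟨fun h => h1 (by rw [h]; exact Subgroup.subgroupOf_self M), fun L hHL hLM => ?_⟩
    by_cases hL : L = H
    · exact Or.inl hL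
    · right
      have hlt : H.subgroupOf M < L.subgroupOf M := by
        refine lt_of_le_of_ne (Subgroup.subgroupOf_mono M hHL) ?_
        intro heq
        apply hL
        have := congrArg (Subgroup.map M.subtype) heq
        rw [Subgroup.subgroupOf_map_subtype, Subgroup.subgroupOf_map_subtype, inf_eq_left.mpr hHM,
          inf_eq_left.mpr hLM] at this
        exact this.symm
      have := h2 _ hlt
      rw [Subgroup.subgroupOf_eq_top] at this
      exact le_antisymm hLM this
  · rintro ⟨h1, h2⟩
    refine ⟨fun h => h1 (le_antisymm hHM (Subgroup.subgroupOf_eq_top.mp h)), fun L' hL' => ?_⟩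
    have hle : L'.map M.subtype ≤ M := Subgroup.map_subtype_le L'
    have hHL : H ≤ L'.map M.subtype := by
      have := Subgroup.map_mono (f := M.subtype) hL'.le
      rwa [Subgroup.subgroupOf_map_subtype, inf_eq_left.mpr hHM] at this
    have hback : (L'.map M.subtype).subgroupOf M = L' := by
      rw [Subgroup.subgroupOf, Subgroup.comap_map_eq_self_of_injective (Subgroup.subtype_injective M)]
    rcases h2 _ hHL hle with h | h
    · exfalso
      rw [← hback, h] at hL'
      exact lt_irrefl _ hL'
    · rw [← hback, h]
      exact Subgroup.subgroupOf_self M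

end Cfsg.Agent.Lib.Helper29
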