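import Mathlib

set_option autoImplicit false

namespace Cfsg.Agent.Lib.Helper29

open Equiv MulAction
open scoped Pointwise

section
variable {Ω ι : Type*} (f : Ω → ι)

/-- The stabiliser of the partition of `Ω` into the fibres of `f`. -/
def partSub : Subgroup (Perm Ω) where
  carrier := {g | ∀ x y : Ω, f x = f y ↔ f (g x) = f (g y)}
  one_mem' := fun _ _ => Iff.rfl
  mul_mem' := by
    intro g h hg hh x y
    rw [Perm.mul_apply, Perm.mul_apply, ← hg, ← hh]
  inv_mem' := by
    intro g hg x y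
    have := hg (g⁻¹ x) (g⁻¹ y)
    rw [Perm.coe_inv, Equiv.apply_symm_apply, Equiv.apply_symm_apply] at this
    exact this.symm

theorem mem_partSub {g : Perm Ω} : g ∈ partSub f ↔ ∀ x y : Ω, f x = f y ↔ f (g x) = f (g y) := Iff.rfl

theorem closure_eq_partSub :
    Subgroup.closure {g : Perm Ω | ∀ x y : Ω, f x = f y ↔ f (g x) = f (g y)} = partSub f :=
  Subgroup.closure_eq (partSub f)

theorem mem_partSub_of_perm {g : Perm Ω} (σ : Perm ι) (h : ∀ x, f (g x) = σ (f x)) : g ∈ partSub f := by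
  intro x y
  rw [h, h, σ.injective.eq_iff]

theorem swap_mem_partSub [DecidableEq Ω] {x y : Ω} (h : f x = f y) : swap x y ∈ partSub f := by
  apply mem_partSub_of_perm f 1
  intro z
  rw [Perm.one_apply]
  by_cases hzx : z = x
  · subst hzx; rw [swap_apply_left, h]
  by_cases hzy : z = y
  · subst hzy; rw [swap_apply_right, h]
  rw [swap_apply_of_ne_of_ne hzx hzy]

variable {f}

/-- Coordinates adapted to a uniform partition. -/
theorem exists_coords [Finite Ω] {a : ℕ} (hf : ∀ i : ι, Nat.card {x : Ω // f x = i} = a) :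
    ∃ φ : Ω ≃ ι × Fin a, ∀ x, (φ x).1 = f x := by
  have e : ∀ i : ι, Nonempty ({x : Ω // f x = i} ≃ Fin a) := fun i => by
    rw [← Finite.card_eq, hf i, Nat.card_eq_fintype_card, Fintype.card_fin]
  let e' : ∀ i : ι, {x : Ω // f x = i} ≃ Fin a := fun i => (e i).some
  refine ⟨(Equiv.sigmaFiberEquiv f).symm.trans ((Equiv.sigmaCongrRight e').trans
    (Equiv.sigmaEquivProd ι (Fin a))), fun x => rfl⟩

/-- Every permutation of the labels lifts to a permutation of the points. -/
theorem exists_lift [Finite Ω] {a : ℕ} (hf : ∀ i : ι, Nat.card {x : Ω // f x = i} = a) (σ : Perm ι) :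
    ∃ g : Perm Ω, (∀ x, f (g x) = σ (f x)) ∧ (∀ x, σ (f x) = f x → g x = x) := by
  obtain ⟨φ, hφ⟩ := exists_coords hf
  refine ⟨φ.trans ((Equiv.prodCongr σ (Equiv.refl _)).trans φ.symm), fun x => ?_, fun x hx => ?_⟩
  · rw [← hφ, ← hφ]
    simp
  · simp only [Equiv.trans_apply]
    rw [Equiv.symm_apply_eq]
    ext
    · simp [hφ, hx]
    · simp

theorem core [Finite Ω] [DecidableEq Ω] [DecidableEq ι] {a : ℕ}
    (hf : ∀ i : ι, Nat.card {x : Ω // f x = i} = a)
    (G : Subgroup (Perm Ω)) (hWG : partSub f ≤ G) (B : Set Ω)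
    (hfix : ∀ g ∈ G, ∀ x ∈ B, g x ∈ B → ∀ y ∈ B, g y ∈ B) (hB : ¬ B.Subsingleton) :
    B = Set.univ ∨ G ≤ partSub f := by
  have stepA : ∀ u ∈ B, ∀ v ∈ B, u ≠ v → ∀ z, f z = f v → z ∈ B := by
    intro u hu v hv huv z hz
    by_cases hzu : z = u
    · rw [hzu]; exact hu
    have h1 : swap v z ∈ G := hWG (swap_mem_partSub f hz.symm)
    have h2 := hfix _ h1 u hu (by rw [swap_apply_of_ne_of_ne huv (Ne.symm hzu)]; exact hu) v hv
    rwa [swap_apply_left] at h2
  by_cases hcase : ∃ u ∈ B, ∃ v ∈ B, f u ≠ f v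
  · left
    obtain ⟨u, hu, v, hv, huv⟩ := hcase
    have huv' : u ≠ v := fun h => huv (h ▸ rfl)
    rw [Set.eq_univ_iff_forall]
    intro z
    by_cases hzv : f z = f v
    · exact stepA u hu v hv huv' z hzv
    by_cases hzu : f z = f u
    · exact stepA v hv u hu huv'.symm z hzu
    obtain ⟨g, hg1, hg2⟩ := exists_lift hf (swap (f v) (f z))
    have hgG : g ∈ G := hWG (mem_partSub_of_perm f _ hg1)
    have hgu : g u = u := hg2 u (swap_apply_of_ne_of_ne huv (Ne.symm hzu))
    have hgv : g v ∈ B := hfix g hgG u hu (by rw [hgu]; exact hu) v hv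
    have hfgv : f (g v) = f z := by rw [hg1, swap_apply_left]
    have hne : u ≠ g v := fun h => hzu (by rw [← hfgv, ← h])
    exact stepA u hu (g v) hgv hne z hfgv.symm
  · right
    push Not at hcase
    rw [Set.not_subsingleton_iff] at hB
    obtain ⟨x, hx, y, hy, hxy⟩ := hB
    have hBmem : ∀ z, z ∈ B ↔ f z = f x := by
      intro z
      constructor
      · intro hz; exact hcase z hz x hx
      · intro hz; exact stepA y hy x hx hxy.symm z hz
    have claim : ∀ g ∈ G, ∀ p q, f p = f q → f (g p) = f (g q) := by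
      intro g hg p q hpq
      obtain ⟨w1, hw1, -⟩ := exists_lift hf (swap (f x) (f p))
      obtain ⟨w2, hw2, -⟩ := exists_lift hf (swap (f x) (f (g p)))
      have hw1G : w1 ∈ G := hWG (mem_partSub_of_perm f _ hw1)
      have hw2G : w2 ∈ G := hWG (mem_partSub_of_perm f _ hw2)
      have hp0 : w1⁻¹ p ∈ B := by
        rw [hBmem]
        have := hw1 (w1⁻¹ p)
        rw [Perm.coe_inv, Equiv.apply_symm_apply] at this
        have h3 : swap (f x) (f p) (f p) = swap (f x) (f p) (swap (f x) (f p) (f (w1.symm p))) := by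
          rw [← this]
        rw [swap_apply_self, swap_apply_right] at h3
        rw [Perm.coe_inv]; exact h3.symm
      have hq0 : w1⁻¹ q ∈ B := by
        rw [hBmem]
        have := hw1 (w1⁻¹ q)
        rw [Perm.coe_inv, Equiv.apply_symm_apply, ← hpq] at this
        have h3 : swap (f x) (f p) (f p) = swap (f x) (f p) (swap (f x) (f p) (f (w1.symm q))) := by
          rw [← this]
        rw [swap_apply_self, swap_apply_right] at h3
        rw [Perm.coe_inv]; exact h3.symm
      have hh : w2 * g * w1 ∈ G := G.mul_mem (G.mul_mem hw2G hg) hw1G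
      have e1 : ∀ t, (w2 * g * w1) (w1⁻¹ t) = w2 (g t) := by
        intro t
        rw [Perm.mul_apply, Perm.mul_apply, Perm.coe_inv, Equiv.apply_symm_apply]
      have h4 := hfix _ hh _ hp0 (by rw [e1, hBmem, hw2, swap_apply_right]) _ hq0
      rw [e1, hBmem, hw2] at h4
      have h5 : swap (f x) (f (g p)) (swap (f x) (f (g p)) (f (g q))) = swap (f x) (f (g p)) (f x) := by
        rw [h4]
      rw [swap_apply_self, swap_apply_left] at h5
      exact h5.symm
    intro g hg p q
    constructor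
    · exact claim g hg p q
    · intro h
      have := claim g⁻¹ (G.inv_mem hg) _ _ h
      rwa [Perm.coe_inv, Equiv.symm_apply_apply, Equiv.symm_apply_apply] at this

theorem hfix_of_isBlock {G : Subgroup (Perm Ω)} {B : Set Ω} (hB : IsBlock G B) :
    ∀ g ∈ G, ∀ x ∈ B, g x ∈ B → ∀ y ∈ B, g y ∈ B := by
  intro g hg x hx hgx y hy
  have h : (⟨g, hg⟩ : G) • B = B := hB.smul_eq_of_mem (g := ⟨g, hg⟩) hx hgx
  rw [← h]
  exact Set.smul_mem_smul_set (a := (⟨g, hg⟩ : G)) hy

theorem partSub_pretransitive [Finite Ω] [DecidableEq Ω] [DecidableEq ι] {a : ℕ}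
    (hf : ∀ i : ι, Nat.card {x : Ω // f x = i} = a) (u v : Ω) : ∃ g ∈ partSub f, g u = v := by
  obtain ⟨g, hg1, -⟩ := exists_lift hf (swap (f u) (f v))
  have h1 : f (g u) = f v := by rw [hg1, swap_apply_left]
  refine ⟨swap (g u) v * g, (partSub f).mul_mem (swap_mem_partSub f h1) (mem_partSub_of_perm f _ hg1), ?_⟩
  rw [Perm.mul_apply, swap_apply_left]

/-- The stabiliser of a uniform partition with at least two blocks of size at least two is a maximal
subgroup of the symmetric group. -/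
theorem isCoatom_partSub [Finite Ω] [DecidableEq Ω] [DecidableEq ι] {a : ℕ} (ha : 2 ≤ a)
    (hι : ∃ i j : ι, i ≠ j)
    (hf : ∀ i : ι, Nat.card {x : Ω // f x = i} = a) : IsCoatom (partSub f) := by
  obtain ⟨i, j, hij⟩ := hι
  obtain ⟨⟨x, hx⟩, ⟨y, hy⟩, hxy⟩ : ∃ p q : {x : Ω // f x = i}, p ≠ q := by
    have : 1 < Nat.card {x : Ω // f x = i} := by rw [hf]; omega
    rw [Finite.one_lt_card_iff_nontrivial] at this
    exact exists_pair_ne _
  have hxy' : x ≠ y := fun h => hxy (Subtype.ext h)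
  obtain ⟨z, hz⟩ : Nonempty {x : Ω // f x = j} := by
    have : 0 < Nat.card {x : Ω // f x = j} := by rw [hf]; omega
    exact (Nat.card_pos_iff.mp this).1
  refine ⟨?_, fun G hG => ?_⟩
  · intro htop
    have hmem : swap y z ∈ partSub f := by rw [htop]; trivial
    have h1 := (hmem x y).mp (hx.trans hy.symm)
    have hxz : x ≠ z := fun h => hij (by rw [← hx, ← hz, h])
    rw [swap_apply_left, swap_apply_of_ne_of_ne hxy' hxz, hx, hz] at h1
    exact hij h1
  · have hsw : swap x y ∈ G := hG.le (swap_mem_partSub f (hx.trans hy.symm))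
    apply Equiv.Perm.subgroup_eq_top_of_isPreprimitive_of_isSwap_mem _ (swap x y) ⟨x, y, hxy', rfl⟩ hsw
    have htr : IsPretransitive G Ω := ⟨fun u v => by
      obtain ⟨g, hg, hguv⟩ := partSub_pretransitive hf u v
      exact ⟨⟨g, hG.le hg⟩, hguv⟩⟩
    refine IsPreprimitive.mk ?_
    intro B hB
    unfold IsTrivialBlock
    rw [or_iff_not_imp_left]
    intro hB'
    rcases core hf G hG.le B (hfix_of_isBlock hB) hB' with h | h
    · exact h
    · exact absurd h (not_le_of_gt hG)

end

end Cfsg.Agent.Lib.Helper29
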